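import Mathlib

set_option linter.style.haveILetI false
set_option linter.unusedVariables false
set_option linter.unusedSectionVars false
set_option autoImplicit false
set_option backward.isDefEq.respectTransparency.types false

universe u

/-! helper7: rigidity lemma: for proper xi with O_S = xi_* O_X, the locus where an S-morphism f collapses the fibres is open and f factors through xi exactly over it (S14666) -/

open CategoryTheory CategoryTheory.Limits AlgebraicGeometry TopologicalSpace Opposite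

namespace Groth.Agent.Helper7.Rigidity

/-- a surjective morphism which is injective on sections over all opens is an epimorphism -/
theorem epi_of_surjective_of_app_injective {X S : Scheme.{u}} (ξ : X ⟶ S)
    (hs : Function.Surjective ξ) (hinj : ∀ U : S.Opens, Function.Injective (ξ.app U).hom) :
    Epi ξ := by
  constructor
  intro Z a b hab
  have hpt : ∀ s : S, a s = b s := by
    intro s
    obtain ⟨x, rfl⟩ := hs s
    have := congrArg (fun ψ : X ⟶ Z => ψ x) hab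
    simpa using this
  have hbase : a.base = b.base := by
    ext s
    exact hpt s
  refine Scheme.Hom.ext hbase (fun U => ?_)
  have hU : b ⁻¹ᵁ U = a ⁻¹ᵁ U := by
    ext s
    show b s ∈ U ↔ a s ∈ U
    rw [hpt s]
  have hle : ξ ⁻¹ᵁ (b ⁻¹ᵁ U) ≤ (ξ ≫ a) ⁻¹ᵁ U := by
    rw [hU]; exact le_rfl
  have hle' : ξ ⁻¹ᵁ (b ⁻¹ᵁ U) ≤ (ξ ≫ b) ⁻¹ᵁ U := le_rfl
  have h1 : (a.app U ≫ S.presheaf.map (eqToHom hU).op) ≫ ξ.app (b ⁻¹ᵁ U) =
      (ξ ≫ a).appLE U (ξ ⁻¹ᵁ (b ⁻¹ᵁ U)) hle := by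
    rw [Scheme.Hom.comp_appLE, Scheme.Hom.app_eq_appLE (f := ξ), Category.assoc,
      Scheme.Hom.map_appLE]
  have h2 : b.app U ≫ ξ.app (b ⁻¹ᵁ U) = (ξ ≫ b).appLE U (ξ ⁻¹ᵁ (b ⁻¹ᵁ U)) hle' := by
    rw [Scheme.Hom.comp_appLE, ← Scheme.Hom.app_eq_appLE]
  have h3 : (ξ ≫ a).appLE U (ξ ⁻¹ᵁ (b ⁻¹ᵁ U)) hle = (ξ ≫ b).appLE U (ξ ⁻¹ᵁ (b ⁻¹ᵁ U)) hle' := by
    simp only [hab]
  have h4 : (a.app U ≫ S.presheaf.map (eqToHom hU).op) ≫ ξ.app (b ⁻¹ᵁ U) =
      b.app U ≫ ξ.app (b ⁻¹ᵁ U) := by rw [h1, h2, h3]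
  ext t
  apply hinj (b ⁻¹ᵁ U)
  exact congrArg (fun ψ => ψ.hom t) h4

/-- base change of such a morphism along an open immersion is again an epimorphism -/
theorem epi_pullback_snd_of_isOpenImmersion {X S P : Scheme.{u}} (ξ : X ⟶ S)
    (hs : Function.Surjective ξ) (hinj : ∀ U : S.Opens, Function.Injective (ξ.app U).hom)
    (j : P ⟶ S) [IsOpenImmersion j] : Epi (pullback.snd ξ j) := by
  apply epi_of_surjective_of_app_injective
  · intro p
    obtain ⟨x, hx⟩ := hs (j p)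
    obtain ⟨z, -, hz⟩ := Scheme.Pullback.exists_preimage_pullback x p hx
    exact ⟨z, hz⟩
  · intro V
    set e := pullback.snd ξ j with he
    set j' := pullback.fst ξ j with hj'
    have hcond : j' ≫ ξ = e ≫ j := pullback.condition
    have hpt : ∀ z, ξ (j' z) = j (e z) := by
      intro z
      have := congrArg (fun ψ : pullback ξ j ⟶ S => ψ z) hcond
      simpa using this
    set U := j ''ᵁ V with hU
    have hVU : V ≤ j ⁻¹ᵁ U := (j.preimage_image_eq V).ge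
    have hEq : e ⁻¹ᵁ V = j' ⁻¹ᵁ (ξ ⁻¹ᵁ U) := by
      ext z
      show e z ∈ V ↔ ξ (j' z) ∈ j ''ᵁ V
      rw [hpt z]
      constructor
      · intro h; exact ⟨e z, h, rfl⟩
      · rintro ⟨p, hp, hpe⟩
        rw [← j.isOpenEmbedding.injective hpe]; exact hp
    have hle3 : e ⁻¹ᵁ V ≤ j' ⁻¹ᵁ (ξ ⁻¹ᵁ U) := hEq.le
    have hle1 : e ⁻¹ᵁ V ≤ (e ≫ j) ⁻¹ᵁ U := by
      intro z hz
      exact ⟨e z, hz, rfl⟩
    have hle2 : e ⁻¹ᵁ V ≤ (j' ≫ ξ) ⁻¹ᵁ U := hle3
    have key : (j.appIso V).hom ≫ e.app V = ξ.app U ≫ j'.appLE (ξ ⁻¹ᵁ U) (e ⁻¹ᵁ V) hle3 := by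
      rw [j.appIso_hom', Scheme.Hom.app_eq_appLE (f := e), Scheme.Hom.appLE_comp_appLE,
        ← Scheme.Hom.comp_appLE]
      simp only [hcond]
      rfl
    have hrange : ξ ⁻¹ᵁ U ≤ j'.opensRange := by
      intro x hx
      obtain ⟨p, hp, hpx⟩ := hx
      obtain ⟨z, hz, -⟩ := Scheme.Pullback.exists_preimage_pullback x p hpx.symm
      exact ⟨z, hz⟩
    have hiso1 : IsIso (j'.app (ξ ⁻¹ᵁ U)) := j'.isIso_app _ hrange
    have h3 : Function.Injective (j'.appLE (ξ ⁻¹ᵁ U) (e ⁻¹ᵁ V) hle3).hom := by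
      have hiso2 : IsIso (homOfLE hle3) := by
        have : homOfLE hle3 = eqToHom hEq := Subsingleton.elim _ _
        rw [this]; infer_instance
      have hiso3 : IsIso ((pullback ξ j).presheaf.map (homOfLE hle3).op) := inferInstance
      have : j'.appLE (ξ ⁻¹ᵁ U) (e ⁻¹ᵁ V) hle3 =
          j'.app (ξ ⁻¹ᵁ U) ≫ (pullback ξ j).presheaf.map (homOfLE hle3).op := rfl
      rw [this]
      exact ((ConcreteCategory.bijective_of_isIso
        ((pullback ξ j).presheaf.map (homOfLE hle3).op)).1).comp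
        (ConcreteCategory.bijective_of_isIso (j'.app (ξ ⁻¹ᵁ U))).1
    have h4 : e.app V = (j.appIso V).inv ≫ ξ.app U ≫ j'.appLE (ξ ⁻¹ᵁ U) (e ⁻¹ᵁ V) hle3 := by
      rw [← key, Iso.inv_hom_id_assoc]
    rw [h4]
    exact (h3.comp (hinj U)).comp (ConcreteCategory.bijective_of_isIso (j.appIso V).inv).1

/-- factoring through a morphism inducing an isomorphism on global sections, into an affine target -/
theorem exists_factor_of_isIso_appTop {X' W V : Scheme.{u}} [IsAffine V] (ξ : X' ⟶ W)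
    (f : X' ⟶ V) [IsIso ξ.appTop] : ∃ r : W ⟶ V, ξ ≫ r = f := by
  refine ⟨W.toSpecΓ ≫ Spec.map (f.appTop ≫ inv ξ.appTop) ≫ inv V.toSpecΓ, ?_⟩
  rw [← cancel_mono V.toSpecΓ]
  simp only [Category.assoc, IsIso.inv_hom_id, Category.comp_id]
  rw [← Category.assoc, Scheme.toSpecΓ_naturality, Category.assoc, ← Spec.map_comp,
    Category.assoc, IsIso.inv_hom_id, Category.comp_id, ← Scheme.toSpecΓ_naturality]

section Factors

variable {X S Y : Scheme.{u}} (ξ : X ⟶ S) (f : X ⟶ Y)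

/-- `f` factors through `ξ` over the open `W` of `S` -/
def Factors (W : S.Opens) : Prop :=
  ∃ r : (W : Scheme.{u}) ⟶ Y, (ξ ∣_ W) ≫ r = (ξ ⁻¹ᵁ W).ι ≫ f

theorem isIso_morphismRestrict_appTop (h0 : ∀ U : S.Opens, IsIso (ξ.app U)) (W : S.Opens) :
    IsIso (ξ ∣_ W).appTop := by
  rw [morphismRestrict_appTop]
  have key : ∀ {C : Type (u + 1)} [Category.{u} C] {A B : C} (e : A = B), IsIso (eqToHom e) :=
    fun e => inferInstance
  refine @IsIso.comp_isIso _ _ _ _ _ _ _ (h0 _) ?_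
  rw [eqToHom_op, eqToHom_map]
  exact key _

/-- local factorisation near a point whose fibre is collapsed -/
theorem exists_factors_nhd (hcl : IsClosedMap ξ) (h0 : ∀ U : S.Opens, IsIso (ξ.app U)) (s : S)
    (y : Y) (hy : ∀ x : X, ξ x = s → f x = y) : ∃ W : S.Opens, s ∈ W ∧ Factors ξ f W := by
  obtain ⟨V, hV, hyV, -⟩ := Opens.isBasis_iff_nbhd.mp Y.isBasis_affineOpens
    (show y ∈ (⊤ : Y.Opens) from trivial)
  have hC : IsClosed (ξ '' ((f ⁻¹ᵁ V : Set X)ᶜ)) := hcl _ (f ⁻¹ᵁ V).isOpen.isClosed_compl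
  let W : S.Opens := ⟨(ξ '' ((f ⁻¹ᵁ V : Set X)ᶜ))ᶜ, hC.isOpen_compl⟩
  have hsW : s ∈ W := by
    rintro ⟨x, hx, hxs⟩
    apply hx
    show f x ∈ V
    rw [hy x hxs]; exact hyV
  have hle : ξ ⁻¹ᵁ W ≤ f ⁻¹ᵁ V := by
    intro x hx
    by_contra hfx
    exact hx ⟨x, hfx, rfl⟩
  haveI : IsAffine (V : Scheme.{u}) := hV
  haveI := isIso_morphismRestrict_appTop ξ h0 W
  obtain ⟨r₀, hr₀⟩ := exists_factor_of_isIso_appTop (ξ ∣_ W) (f.resLE V (ξ ⁻¹ᵁ W) hle)
  refine ⟨W, hsW, r₀ ≫ Scheme.Opens.ι V, ?_⟩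
  rw [← Category.assoc, hr₀, Scheme.Hom.resLE_comp_ι]

variable {ξ f}

/-- the basic consequence of a factorisation over `W` -/
theorem comp_eq_of_factors {W : S.Opens} (r : (W : Scheme.{u}) ⟶ Y)
    (hr : (ξ ∣_ W) ≫ r = (ξ ⁻¹ᵁ W).ι ≫ f) {Q : Scheme.{u}} (a : Q ⟶ X) (b : Q ⟶ W)
    (hab : a ≫ ξ = b ≫ W.ι) : b ≫ r = a ≫ f := by
  have hrange : Set.range a ⊆ Set.range (ξ ⁻¹ᵁ W).ι := by
    rintro _ ⟨q, rfl⟩
    rw [Scheme.Opens.range_ι]
    show ξ (a q) ∈ W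
    have h1 : ξ (a q) = W.ι (b q) := by
      have := congrArg (fun ψ : Q ⟶ S => ψ q) hab
      simpa using this
    rw [h1]
    exact (b q).2
  let ℓ : Q ⟶ (ξ ⁻¹ᵁ W : Scheme.{u}) := IsOpenImmersion.lift (ξ ⁻¹ᵁ W).ι a hrange
  have hℓ : ℓ ≫ (ξ ⁻¹ᵁ W).ι = a := IsOpenImmersion.lift_fac _ _ _
  have hℓb : ℓ ≫ (ξ ∣_ W) = b := by
    rw [← cancel_mono W.ι, Category.assoc, morphismRestrict_ι, ← Category.assoc, hℓ, hab]
  rw [← hℓb, Category.assoc, hr, ← Category.assoc, hℓ]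

/-- over an open where `f` factors, all fibres are collapsed -/
theorem collapsed_of_factors {W : S.Opens} (hW : Factors ξ f W) (s : S) (hs : s ∈ W) :
    ∃ y : Y, ∀ x : X, ξ x = s → f x = y := by
  obtain ⟨r, hr⟩ := hW
  refine ⟨r ⟨s, hs⟩, ?_⟩
  intro x hx
  have hxW : x ∈ ξ ⁻¹ᵁ W := by
    show ξ x ∈ W
    rw [hx]; exact hs
  have h1 := congrArg (fun ψ : (ξ ⁻¹ᵁ W : Scheme.{u}) ⟶ Y => ψ ⟨x, hxW⟩) hr
  simp only [Scheme.Hom.comp_apply] at h1
  have h2 : (ξ ∣_ W) ⟨x, hxW⟩ = ⟨s, hs⟩ := by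
    apply Subtype.ext
    have h3 := congrArg (fun ψ : (ξ ⁻¹ᵁ W : Scheme.{u}) ⟶ S => ψ ⟨x, hxW⟩)
      (morphismRestrict_ι ξ W)
    simp only [Scheme.Hom.comp_apply] at h3
    exact h3.trans hx
  rw [h2] at h1
  exact h1.symm

/-- gluing local factorisations -/
theorem factors_of_forall_nhd (hs : Function.Surjective ξ)
    (hinj : ∀ U : S.Opens, Function.Injective (ξ.app U).hom) (U : S.Opens)
    (h : ∀ s ∈ U, ∃ W : S.Opens, s ∈ W ∧ W ≤ U ∧ Factors ξ f W) : Factors ξ f U := by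
  have h' : ∀ s : U, ∃ W : S.Opens, s.1 ∈ W ∧ W ≤ U ∧ Factors ξ f W := fun s => h s.1 s.2
  choose W hsW hWU hF using h'
  choose r hr using hF
  let 𝒰 : (U : Scheme.{u}).OpenCover := {
    I₀ := U
    X := fun s => (W s : Scheme.{u})
    f := fun s => S.homOfLE (hWU s)
    mem₀ := by
      rw [Scheme.presieve₀_mem_precoverage_iff]
      refine ⟨fun x => ⟨x, ⟨⟨x.1, hsW x⟩, ?_⟩⟩, inferInstance⟩
      show (S.homOfLE (hWU x)) ⟨x.1, hsW x⟩ = x
      rw [Scheme.homOfLE_apply']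
      rfl }
  have hf : ∀ s s' : U, pullback.fst (𝒰.f s) (𝒰.f s') ≫ r s = pullback.snd _ _ ≫ r s' := by
    intro s s'
    let j : pullback (𝒰.f s) (𝒰.f s') ⟶ S := pullback.fst (𝒰.f s) (𝒰.f s') ≫ (W s).ι
    haveI : Epi (pullback.snd ξ j) := epi_pullback_snd_of_isOpenImmersion ξ hs hinj j
    rw [← cancel_epi (pullback.snd ξ j)]
    have hj' : j = pullback.snd (𝒰.f s) (𝒰.f s') ≫ (W s').ι := by
      show pullback.fst (𝒰.f s) (𝒰.f s') ≫ (W s).ι = _
      rw [← S.homOfLE_ι (hWU s), ← S.homOfLE_ι (hWU s'), ← Category.assoc, ← Category.assoc]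
      congr 1
      exact pullback.condition
    have e1 := comp_eq_of_factors (r s) (hr s) (pullback.fst ξ j)
      (pullback.snd ξ j ≫ pullback.fst (𝒰.f s) (𝒰.f s'))
      (by rw [Category.assoc]; exact pullback.condition)
    have e2 := comp_eq_of_factors (r s') (hr s') (pullback.fst ξ j)
      (pullback.snd ξ j ≫ pullback.snd (𝒰.f s) (𝒰.f s'))
      (by rw [Category.assoc, ← hj']; exact pullback.condition)
    rw [Category.assoc] at e1 e2
    rw [e1, e2]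
  refine ⟨𝒰.glueMorphisms r hf, ?_⟩
  refine Scheme.Cover.hom_ext (𝒰.pullback₁ (ξ ∣_ U)) _ _ fun s => ?_
  show pullback.fst (ξ ∣_ U) (𝒰.f s) ≫ (ξ ∣_ U) ≫ 𝒰.glueMorphisms r hf =
    pullback.fst (ξ ∣_ U) (𝒰.f s) ≫ (ξ ⁻¹ᵁ U).ι ≫ f
  rw [← Category.assoc, pullback.condition, Category.assoc, Scheme.Cover.ι_glueMorphisms]
  have e1 := comp_eq_of_factors (r s) (hr s) (pullback.fst (ξ ∣_ U) (𝒰.f s) ≫ (ξ ⁻¹ᵁ U).ι)
    (pullback.snd (ξ ∣_ U) (𝒰.f s)) (by
      rw [Category.assoc, ← morphismRestrict_ι, ← Category.assoc, pullback.condition,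
        Category.assoc]
      congr 1
      exact S.homOfLE_ι (hWU s))
  rw [e1, Category.assoc]

theorem factors_comp_eq_ι (hs : Function.Surjective ξ)
    (hinj : ∀ U : S.Opens, Function.Injective (ξ.app U).hom) {v : Y ⟶ S} (hf : f ≫ v = ξ)
    {U : S.Opens} (r : (U : Scheme.{u}) ⟶ Y) (hr : (ξ ∣_ U) ≫ r = (ξ ⁻¹ᵁ U).ι ≫ f) :
    r ≫ v = U.ι := by
  haveI : Epi (pullback.snd ξ U.ι) := epi_pullback_snd_of_isOpenImmersion ξ hs hinj U.ι
  rw [← cancel_epi (pullback.snd ξ U.ι)]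
  have e1 := comp_eq_of_factors r hr (pullback.fst ξ U.ι) (pullback.snd ξ U.ι) pullback.condition
  rw [← Category.assoc, e1, Category.assoc, hf]
  exact pullback.condition

end Factors

/-- a closed morphism with `O_S ≅ ξ_* O_X` is surjective -/
theorem surjective_of_isIso_app' {X S : Scheme.{u}} (ξ : X ⟶ S) (hcl : IsClosedMap ξ)
    (h0 : ∀ U : S.Opens, IsIso (ξ.app U)) : Function.Surjective ξ := by
  intro y
  by_contra hy
  have hcl : IsClosed (Set.range ξ) := hcl.isClosed_range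
  let U : S.Opens := ⟨(Set.range ξ)ᶜ, hcl.isOpen_compl⟩
  have hyU : y ∈ U := hy
  have hpre : ξ ⁻¹ᵁ U = ⊥ := by
    ext x
    simp only [Scheme.Hom.coe_preimage, Set.mem_preimage, Opens.coe_bot, Set.mem_empty_iff_false,
      iff_false]
    intro hx
    exact hx ⟨x, rfl⟩
  haveI : Subsingleton Γ(X, ξ ⁻¹ᵁ U) := by
    rw [hpre]; infer_instance
  haveI := h0 U
  have hbij := ConcreteCategory.bijective_of_isIso (ξ.app U)
  haveI : Subsingleton Γ(S, U) := hbij.1.subsingleton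
  haveI : Nonempty ↥U := ⟨⟨y, hyU⟩⟩
  haveI : Nontrivial Γ(S, U) := inferInstance
  exact not_subsingleton Γ(S, U) inferInstance

/-- **Rigidity**: the collapsed locus is open and base changes of `f` factor exactly over it. -/
theorem collapsedLocus_main {X Y S : Scheme.{u}} (ξ : X ⟶ S) [IsProper ξ]
    (h0 : ∀ U : S.Opens, Function.Bijective (ξ.app U).hom)
    (v : Y ⟶ S) (f : X ⟶ Y) (hf : f ≫ v = ξ) :
    IsOpen {s : ↥S | ∃ y : ↥Y, ∀ x : ↥X, ξ.base x = s → f.base x = y} ∧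
    ∀ (T : Scheme.{u}) (τ : T ⟶ S),
      ((∃ r : T ⟶ Y, r ≫ v = τ ∧ pullback.fst ξ τ ≫ f = pullback.snd ξ τ ≫ r) ↔
        ∀ t : ↥T, τ.base t ∈ {s : ↥S | ∃ y : ↥Y, ∀ x : ↥X, ξ.base x = s → f.base x = y}) := by
  have h0iso : ∀ U : S.Opens, IsIso (ξ.app U) := fun U =>
    (ConcreteCategory.isIso_iff_bijective _).mpr (h0 U)
  have hinj : ∀ U : S.Opens, Function.Injective (ξ.app U).hom := fun U => (h0 U).1
  have hcl : IsClosedMap ξ := ξ.isClosedMap
  have hs : Function.Surjective ξ := surjective_of_isIso_app' ξ hcl h0iso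
  have hopen : IsOpen {s : ↥S | ∃ y : ↥Y, ∀ x : ↥X, ξ.base x = s → f.base x = y} := by
    rw [isOpen_iff_forall_mem_open]
    rintro s ⟨y, hy⟩
    obtain ⟨W, hsW, hW⟩ := exists_factors_nhd ξ f hcl h0iso s y hy
    exact ⟨W, fun s' hs' => collapsed_of_factors hW s' hs', W.isOpen, hsW⟩
  refine ⟨hopen, ?_⟩
  intro T τ
  constructor
  · rintro ⟨r, hrv, hr⟩ t
    refine ⟨r t, ?_⟩
    intro x hx
    obtain ⟨z, hz1, hz2⟩ := Scheme.Pullback.exists_preimage_pullback x t hx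
    have h1 := congrArg (fun ψ : pullback ξ τ ⟶ Y => ψ z) hr
    simp only [Scheme.Hom.comp_apply] at h1
    rw [hz1, hz2] at h1
    exact h1
  · intro hτ
    let U : S.Opens := ⟨_, hopen⟩
    have hFU : Factors ξ f U := by
      apply factors_of_forall_nhd hs hinj U
      rintro s ⟨y, hy⟩
      obtain ⟨W, hsW, hW⟩ := exists_factors_nhd ξ f hcl h0iso s y hy
      exact ⟨W, hsW, fun s' hs' => collapsed_of_factors hW s' hs', hW⟩
    obtain ⟨rU, hrU⟩ := hFU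
    have hrange : Set.range τ ⊆ Set.range U.ι := by
      rintro _ ⟨t, rfl⟩
      rw [Scheme.Opens.range_ι]
      exact hτ t
    let τ' : T ⟶ (U : Scheme.{u}) := IsOpenImmersion.lift U.ι τ hrange
    have hτ' : τ' ≫ U.ι = τ := IsOpenImmersion.lift_fac _ _ _
    refine ⟨τ' ≫ rU, ?_, ?_⟩
    · rw [Category.assoc, factors_comp_eq_ι hs hinj hf rU hrU, hτ']
    · have e1 := comp_eq_of_factors rU hrU (pullback.fst ξ τ) (pullback.snd ξ τ ≫ τ') (by
        rw [Category.assoc, hτ']; exact pullback.condition)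
      rw [← e1, Category.assoc]

end Groth.Agent.Helper7.Rigidity
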